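import Cfsg.Agent.Lib.Lead.AutPSLCountD
import Cfsg.Agent.Lib.Helper7.AutPSL.CosetField
import Mathlib

/-!
# Orders of inner-diagonal automorphisms of `PSL_n(F)` (helper7)

`Dh A ^ j = 1` iff `A ^ j` is scalar; the elements `c • A ^ i` (`c ≠ 0`, `i` below the order of
`Dh A`) are pairwise distinct.
-/

set_option autoImplicit false

namespace Cfsg.Agent.Lib.H7MaxOrd

open Matrix Cfsg Cfsg.Agent.AutPSLCount Cfsg.Agent.Lib.H7AutPSL

variable {n : ℕ} {F : Type*} [Field F]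

theorem Dh_pow_eq_one_iff (hn : 2 ≤ n) (A : GL (Fin n) F) (j : ℕ) :
    (Dh A : MulAut (PSLn n F)) ^ j = 1 ↔
      ∃ c : F, A.val ^ j = c • (1 : Matrix (Fin n) (Fin n) F) := by
  rw [← map_pow, ← MonoidHom.mem_ker, Dh_ker hn,
    Matrix.GeneralLinearGroup.mem_center_iff_val_mem_range_scalar, Units.val_pow_eq_pow_val]
  constructor
  · rintro ⟨c, hc⟩
    refine ⟨c, ?_⟩
    rw [← hc, Matrix.scalar_apply, Matrix.smul_one_eq_diagonal]
  · rintro ⟨c, hc⟩
    refine ⟨c, ?_⟩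
    rw [hc, Matrix.scalar_apply, Matrix.smul_one_eq_diagonal]

theorem isUnit_val_pow (A : GL (Fin n) F) (i : ℕ) : IsUnit (A.val ^ i) := by
  rw [← Units.val_pow_eq_pow_val]
  exact (A ^ i).isUnit

theorem smul_pow_ne_zero [Nonempty (Fin n)] (A : GL (Fin n) F) {c : F} (hc : c ≠ 0) (i : ℕ) :
    c • A.val ^ i ≠ 0 := by
  intro h
  rcases smul_eq_zero.1 h with h0 | h0
  · exact hc h0
  · exact (isUnit_val_pow A i).ne_zero h0

/-- the elements `c • A ^ i` are pairwise distinct -/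
theorem smul_pow_inj (hn : 2 ≤ n) (A : GL (Fin n) F) {c c' : F} (hc : c ≠ 0) (hc' : c' ≠ 0)
    {i j : ℕ} (hi : i < orderOf (Dh A : MulAut (PSLn n F)))
    (hj : j < orderOf (Dh A : MulAut (PSLn n F)))
    (h : c • A.val ^ i = c' • A.val ^ j) : i = j ∧ c = c' := by
  have : Nonempty (Fin n) := ⟨⟨0, by omega⟩⟩
  have key : ∀ (c c' : F) (i j : ℕ), c ≠ 0 → c' ≠ 0 → i ≤ j →
      j < orderOf (Dh A : MulAut (PSLn n F)) → c • A.val ^ i = c' • A.val ^ j → i = j := by
    intro c c' i j hc hc' hij hj h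
    obtain ⟨B, hB⟩ := isUnit_val_pow A i
    have h1 : A.val ^ j = A.val ^ i * A.val ^ (j - i) := by
      rw [← pow_add]
      congr 1
      omega
    rw [h1, ← hB] at h
    have h2 : (B⁻¹ : (Matrix (Fin n) (Fin n) F)ˣ).val * (c • B.val)
        = (B⁻¹ : (Matrix (Fin n) (Fin n) F)ˣ).val * (c' • (B.val * A.val ^ (j - i))) := by
      rw [h]
    rw [Matrix.mul_smul, Matrix.mul_smul, ← Matrix.mul_assoc, Units.inv_mul, Matrix.one_mul] at h2
    have h3 : A.val ^ (j - i) = (c'⁻¹ * c) • (1 : Matrix (Fin n) (Fin n) F) := by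
      rw [mul_smul, h2, smul_smul, inv_mul_cancel₀ hc', one_smul]
    have h4 : (Dh A : MulAut (PSLn n F)) ^ (j - i) = 1 :=
      (Dh_pow_eq_one_iff hn A (j - i)).2 ⟨_, h3⟩
    have h5 := orderOf_dvd_of_pow_eq_one h4
    have h6 : j - i = 0 := Nat.eq_zero_of_dvd_of_lt h5 (by omega)
    omega
  have hij : i = j := by
    rcases Nat.le_total i j with h1 | h1
    · exact key c c' i j hc hc' h1 hj h
    · exact (key c' c j i hc' hc h1 hi h.symm).symm
  refine ⟨hij, ?_⟩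
  subst hij
  have h3 : (c - c') • A.val ^ i = 0 := by rw [sub_smul, h, sub_self]
  rcases smul_eq_zero.1 h3 with h0 | h0
  · exact sub_eq_zero.1 h0
  · exact absurd h0 (isUnit_val_pow A i).ne_zero

theorem orderOf_Dh_pos [Finite F] (A : GL (Fin n) F) :
    0 < orderOf (Dh A : MulAut (PSLn n F)) := by
  have : Finite (GL (Fin n) F) := Finite.of_injective (fun g : GL (Fin n) F => g.val)
    (fun a b h => Units.ext h)
  have h1 : IsOfFinOrder A := isOfFinOrder_of_finite A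
  exact orderOf_pos_iff.2 ((Dh : GL (Fin n) F →* MulAut (PSLn n F)).isOfFinOrder h1)

end Cfsg.Agent.Lib.H7MaxOrd
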