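import Cfsg.Agent.Lib.Helper7.MaxOrd.RealD
import Cfsg.Agent.Lib.Helper7.AutPSL.CosetGraphField
import Cfsg.Agent.S2261
import Mathlib

/-!
# The maximal element order of `Aut(PSL_n(F))` (helper7)

Assembly: semilinear automorphisms (`numA`), graph-type automorphisms whose field part has a
square of order at least two (`numB`), graph-type automorphisms with `σ² = 1` (`real_bound`), and
the Singer cycle.
-/

set_option autoImplicit false

namespace Cfsg.Agent.Lib.H7MaxOrd

open Matrix Cfsg Cfsg.Agent.AutPSLCount Cfsg.Agent.Lib.H7AutPSL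

variable {n : ℕ} {F : Type*} [Field F]

theorem finite_ringAut [Finite F] : Finite (RingAut F) :=
  Finite.of_injective (fun σ : RingAut F => (σ : F → F)) (fun _ _ h => RingEquiv.ext (congrFun h))

theorem card_fixK_ge [Finite F] (τ : RingAut F) : 2 ≤ Nat.card (fixK τ) := Finite.one_lt_card

/-- **semilinear automorphisms** -/
theorem bound_semilinear [Fintype F] (hn : 2 ≤ n) (h24 : ¬ (n = 2 ∧ Fintype.card F = 4))
    (g : GL (Fin n) F) (σ : RingAut F) :
    (Fintype.card F - 1) * orderOf (Dh g * Ph σ : MulAut (PSLn n F))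
      ≤ Fintype.card F ^ n - 1 := by
  have := finite_ringAut (F := F)
  obtain ⟨m, hm0, hdvd, hle⟩ := typeI_bound hn σ g
  have hq := card_fixK_pow σ
  have hx2 : 2 ≤ Nat.card (fixK σ) := card_fixK_ge σ
  have hs1 : 1 ≤ orderOf σ := orderOf_pos σ
  have hexc : ¬ (n = 2 ∧ Nat.card (fixK σ) = 2 ∧ orderOf σ = 2) := by
    rintro ⟨h1, h2, h3⟩
    apply h24
    refine ⟨h1, ?_⟩
    rw [hq, h2, h3]
    norm_num
  have h1 := numA hx2 hs1 hn hexc hle
  rw [hq]
  calc (Nat.card (fixK σ) ^ orderOf σ - 1) * orderOf (Dh g * Ph σ : MulAut (PSLn n F))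
      ≤ (Nat.card (fixK σ) ^ orderOf σ - 1) * (orderOf σ * m) :=
        Nat.mul_le_mul_left _ (Nat.le_of_dvd (Nat.mul_pos hs1 hm0) hdvd)
    _ ≤ _ := h1

/-- the square of an element of a graph coset -/
theorem graph_coset_sq (σ : RingAut F) (g : GL (Fin n) F) :
    (Dh g * Ph σ * Γ : MulAut (PSLn n F)) ^ 2 = Dh (g * gmap σ (gti g)) * Ph (σ ^ 2) := by
  have h1 : (Ph σ * Γ : MulAut (PSLn n F)) * (Ph σ * Γ) = Ph (σ ^ 2) := by
    calc (Ph σ * Γ : MulAut (PSLn n F)) * (Ph σ * Γ) = Ph σ * (Γ * Ph σ) * Γ := by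
          simp only [mul_assoc]
      _ = Ph σ * Ph σ * (Γ * Γ) := by rw [Γ_Ph]; simp only [mul_assoc]
      _ = Ph (σ ^ 2) := by rw [Γ_Γ, mul_one, ← map_mul, ← pow_two]
  rw [pow_two]
  calc Dh g * Ph σ * Γ * (Dh g * Ph σ * Γ)
      = Dh g * ((Ph σ * Γ) * Dh g) * (Ph σ * Γ) := by simp only [mul_assoc]
    _ = Dh g * Dh (gmap σ (gti g)) * ((Ph σ * Γ) * (Ph σ * Γ)) := by
        rw [phΓ_Dh]; simp only [mul_assoc]
    _ = _ := by rw [h1, map_mul]

/-- the square of a graph-type element with `σ² = 1` is real -/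
theorem graph_sq_rel (σ : RingAut F) (hσ2 : σ ^ 2 = 1) (g : GL (Fin n) F) :
    ((g * gmap σ (gti g))⁻¹).val = tw σ g (g * gmap σ (gti g)).val := by
  have hσσ := aut_sq_apply σ hσ2
  have h1 : ((gmap σ (gti g))⁻¹).val = (g.val.map σ)ᵀ := by
    rw [← map_inv, gmap_val, gti_inv_val, Matrix.transpose_map]
  have h2 : ((gmap σ (gti g)).val).map σ = (g⁻¹.val)ᵀ := by
    rw [gmap_val, gti_val]
    ext i j
    simp only [Matrix.map_apply]
    exact hσσ _
  have h3 : g.val * g⁻¹.val = 1 := by rw [← Units.val_mul, mul_inv_cancel, Units.val_one]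
  unfold tw
  rw [_root_.mul_inv_rev, Units.val_mul, h1, Units.val_mul, Matrix.map_mul, h2, Matrix.transpose_mul,
    Matrix.transpose_transpose, ← Matrix.mul_assoc, h3, Matrix.one_mul]

/-- **graph-type automorphisms** -/
theorem bound_graph [Fintype F] (hn : 3 ≤ n) (h32 : ¬ (n = 3 ∧ Fintype.card F = 2))
    (g : GL (Fin n) F) (σ : RingAut F) :
    (Fintype.card F - 1) * orderOf (Dh g * Ph σ * Γ : MulAut (PSLn n F))
      ≤ Fintype.card F ^ n - 1 := by
  have := finite_ringAut (F := F)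
  set φ : MulAut (PSLn n F) := Dh g * Ph σ * Γ with hφ
  set h := g * gmap σ (gti g) with hh
  have hsq : φ ^ 2 = Dh h * Ph (σ ^ 2) := graph_coset_sq σ g
  by_cases hσ2 : σ ^ 2 = 1
  · rw [hσ2, map_one, mul_one] at hsq
    have hdvd : orderOf φ ∣ 2 * orderOf (Dh h : MulAut (PSLn n F)) := by
      apply orderOf_dvd_of_pow_eq_one
      rw [pow_mul, hsq, pow_orderOf_eq_one]
    have hpos : 0 < 2 * orderOf (Dh h : MulAut (PSLn n F)) :=
      Nat.mul_pos (by norm_num) (orderOf_Dh_pos h)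
    have h1 := real_bound hn h32 σ g h (graph_sq_rel σ hσ2 g)
    calc (Fintype.card F - 1) * orderOf φ
        ≤ (Fintype.card F - 1) * (2 * orderOf (Dh h : MulAut (PSLn n F))) :=
          Nat.mul_le_mul_left _ (Nat.le_of_dvd hpos hdvd)
      _ = 2 * ((Fintype.card F - 1) * orderOf (Dh h : MulAut (PSLn n F))) := by ring
      _ ≤ _ := h1
  · obtain ⟨m, hm0, hdvd0, hle⟩ := typeI_bound (by omega : 2 ≤ n) (σ ^ 2) h
    rw [← hsq] at hdvd0
    have hq := card_fixK_pow (σ ^ 2)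
    have hq0 := card_fixK_pow σ
    have hx2 : 2 ≤ Nat.card (fixK (σ ^ 2)) := card_fixK_ge _
    have hx02 : 2 ≤ Nat.card (fixK σ) := card_fixK_ge _
    have hs0 : 0 < orderOf (σ ^ 2) := orderOf_pos _
    have hs1 : orderOf (σ ^ 2) ≠ 1 := fun h1 => hσ2 (orderOf_eq_one_iff.1 h1)
    have hs2 : 2 ≤ orderOf (σ ^ 2) := by omega
    have he0 : 0 < orderOf σ := orderOf_pos σ
    have hpow := orderOf_pow' σ (by norm_num : (2 : ℕ) ≠ 0)
    have hor : 3 ≤ orderOf (σ ^ 2) ∨ 4 ≤ Nat.card (fixK (σ ^ 2)) := by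
      rcases Nat.even_or_odd (orderOf σ) with he | he
      · right
        obtain ⟨e, he⟩ := he
        have hg : Nat.gcd (orderOf σ) 2 = 2 := by
          apply Nat.gcd_eq_right
          rw [he]
          exact ⟨e, by ring⟩
        rw [hg, he] at hpow
        have hs : orderOf (σ ^ 2) = e := by
          rw [hpow]
          omega
        rw [hs] at hq
        rw [he] at hq0
        have h3 : (Nat.card (fixK σ) ^ 2) ^ e = Nat.card (fixK (σ ^ 2)) ^ e := by
          rw [← hq, hq0, ← pow_mul]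
          congr 1
          ring
        have h4 := Nat.pow_left_injective (n := e) (by omega) h3
        have h5 : Nat.card (fixK σ) ^ 2 = Nat.card (fixK (σ ^ 2)) := h4
        rw [← h5]
        calc 4 = 2 ^ 2 := by norm_num
          _ ≤ _ := Nat.pow_le_pow_left hx02 2
      · left
        have hg : Nat.gcd (orderOf σ) 2 = 1 := by
          rw [Nat.coprime_two_right.2 he]
        rw [hg, Nat.div_one] at hpow
        rw [hpow]
        rw [hpow] at hs2
        obtain ⟨k, hk⟩ := he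
        omega
    have h1 := numB hx2 hs2 hn hor hle
    have hdvd : orderOf φ ∣ 2 * (orderOf (σ ^ 2) * m) := by
      apply orderOf_dvd_of_pow_eq_one
      rw [pow_mul]
      exact orderOf_dvd_iff_pow_eq_one.1 hdvd0
    have hpos : 0 < 2 * (orderOf (σ ^ 2) * m) := Nat.mul_pos (by norm_num) (Nat.mul_pos hs0 hm0)
    rw [hq]
    calc (Nat.card (fixK (σ ^ 2)) ^ orderOf (σ ^ 2) - 1) * orderOf φ
        ≤ (Nat.card (fixK (σ ^ 2)) ^ orderOf (σ ^ 2) - 1) * (2 * (orderOf (σ ^ 2) * m)) :=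
          Nat.mul_le_mul_left _ (Nat.le_of_dvd hpos hdvd)
      _ = (Nat.card (fixK (σ ^ 2)) ^ orderOf (σ ^ 2) - 1) * (2 * orderOf (σ ^ 2) * m) := by ring
      _ ≤ _ := h1

/-- **the upper bound** -/
theorem upper_bound [Fintype F] (hn : 2 ≤ n) (hfac : Fac n F)
    (h24 : ¬ (n = 2 ∧ Fintype.card F = 4)) (h32 : ¬ (n = 3 ∧ Fintype.card F = 2))
    (φ : MulAut (PSLn n F)) :
    (Fintype.card F - 1) * orderOf φ ≤ Fintype.card F ^ n - 1 := by
  obtain ⟨g, σ, c, hc, rfl⟩ := hfac φ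
  rcases hc with rfl | rfl
  · rw [mul_one]
    exact bound_semilinear hn h24 g σ
  · rcases Nat.lt_or_ge n 3 with h3 | h3
    · have h2 : n = 2 := by omega
      subst h2
      have h1 : (Dh g * Ph σ * Γ : MulAut (PSLn 2 F)) = Dh (g * gmap σ w2) * Ph σ := by
        rw [Γ_two, mul_assoc, Ph_Dh, ← mul_assoc, ← map_mul]
      rw [h1]
      exact bound_semilinear hn h24 _ σ
    · exact bound_graph h3 h32 g σ

/-- **the Singer cycle** -/
theorem exists_max [Fintype F] (hn : 2 ≤ n) :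
    ∃ φ : MulAut (PSLn n F), (Fintype.card F - 1) * orderOf φ = Fintype.card F ^ n - 1 := by
  obtain ⟨gbar, hg⟩ := Cfsg.Agent.S2261.exists_singer (F := F) n (by omega)
  obtain ⟨A, rfl⟩ := QuotientGroup.mk_surjective gbar
  refine ⟨Dh A, ?_⟩
  rw [← hg]
  congr 1
  rw [orderOf_eq_orderOf_iff]
  intro j
  rw [← map_pow, ← MonoidHom.mem_ker, Dh_ker hn, ← QuotientGroup.mk_pow, QuotientGroup.eq_one_iff]

end Cfsg.Agent.Lib.H7MaxOrd
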