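import Mathlib

/-!
# Numerical inequalities for the maximal element order of `Aut(PSL_d(q))` (helper7)
-/

set_option autoImplicit false

namespace Cfsg.Agent.Lib.H7MaxOrd

/-- the geometric sum `1 + x + ... + x^(d-1)` -/
def gs (x d : ℕ) : ℕ := ∑ i ∈ Finset.range d, x ^ i

theorem gs_succ (x d : ℕ) : gs x (d + 1) = gs x d + x ^ d := by
  unfold gs
  rw [Finset.sum_range_succ]

theorem gs_zero (x : ℕ) : gs x 0 = 0 := by
  unfold gs
  rw [Finset.sum_range_zero]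

theorem gs_spec {x : ℕ} (hx : 1 ≤ x) (d : ℕ) : (x - 1) * gs x d + 1 = x ^ d := by
  have h := geom_sum_mul_add (x - 1) d
  rw [Nat.sub_add_cancel hx] at h
  unfold gs
  rw [mul_comm]
  exact h

theorem le_gs {x m d : ℕ} (hx : 2 ≤ x) (h : (x - 1) * m + 1 ≤ x ^ d) : m ≤ gs x d := by
  rw [← gs_spec (by omega : 1 ≤ x) d] at h
  have h1 : (x - 1) * m ≤ (x - 1) * gs x d := by omega
  exact Nat.le_of_mul_le_mul_left h1 (by omega)

theorem le_two_pow_pred (s : ℕ) (hs : 1 ≤ s) : s ≤ 2 ^ (s - 1) := by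
  have := Nat.lt_two_pow_self (n := s - 1)
  omega

/-- `s x^i ≤ (x^s)^i` -/
theorem mul_pow_le {x s i : ℕ} (hx : 2 ≤ x) (hs : 1 ≤ s) (hi : 1 ≤ i) :
    s * x ^ i ≤ (x ^ s) ^ i := by
  have h1 : s ≤ x ^ ((s - 1) * i) := by
    calc s ≤ 2 ^ (s - 1) := le_two_pow_pred s hs
      _ ≤ x ^ (s - 1) := Nat.pow_le_pow_left hx _
      _ ≤ x ^ ((s - 1) * i) := Nat.pow_le_pow_right (by omega) (Nat.le_mul_of_pos_right _ hi)
  have h2 : (x ^ s) ^ i = x ^ ((s - 1) * i) * x ^ i := by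
    rw [← pow_mul, ← pow_add]
    congr 1
    have : s = (s - 1) + 1 := by omega
    conv_lhs => rw [this]
    ring
  rw [h2]
  exact Nat.mul_le_mul_right _ h1

/-- `2 s x^i ≤ (x^s)^i` for `i ≥ 2`, `s ≥ 2` -/
theorem two_mul_pow_le {x s i : ℕ} (hx : 2 ≤ x) (hs : 2 ≤ s) (hi : 2 ≤ i) :
    2 * s * x ^ i ≤ (x ^ s) ^ i := by
  have h0 : s ≤ (s - 1) * i := by
    calc s ≤ (s - 1) * 2 := by omega
      _ ≤ (s - 1) * i := Nat.mul_le_mul_left _ hi
  have h1 : 2 * s ≤ x ^ ((s - 1) * i) := by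
    calc 2 * s ≤ 2 * 2 ^ (s - 1) := Nat.mul_le_mul_left _ (le_two_pow_pred s (by omega))
      _ = 2 ^ s := by
        have : s = (s - 1) + 1 := by omega
        conv_rhs => rw [this, pow_succ]
        ring
      _ ≤ x ^ s := Nat.pow_le_pow_left hx _
      _ ≤ x ^ ((s - 1) * i) := Nat.pow_le_pow_right (by omega) h0
  have h2 : (x ^ s) ^ i = x ^ ((s - 1) * i) * x ^ i := by
    rw [← pow_mul, ← pow_add]
    congr 1
    have : s = (s - 1) + 1 := by omega
    conv_lhs => rw [this]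
    ring
  rw [h2]
  exact Nat.mul_le_mul_right _ h1

/-- the base inequality in dimension two -/
theorem base_two {x : ℕ} (hx : 2 ≤ x) : ∀ s : ℕ, 2 ≤ s → ¬ (x = 2 ∧ s = 2) →
    s * (1 + x) ≤ 1 + x ^ s := by
  intro s
  induction s with
  | zero => intro h; omega
  | succ s ih =>
    intro hs hexc
    rcases Nat.lt_or_ge s 2 with h2 | h2
    · -- s + 1 = 2
      have hs1 : s = 1 := by omega
      subst hs1
      have hx3 : 3 ≤ x := by
        by_contra hlt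
        exact hexc ⟨by omega, rfl⟩
      have : x ^ 2 = x * x := by ring
      have h3 : 3 * x ≤ x * x := Nat.mul_le_mul_right _ hx3
      show (1 + 1) * (1 + x) ≤ 1 + x ^ (1 + 1)
      rw [show (1 + 1 : ℕ) = 2 by rfl, this]
      nlinarith
    · by_cases hx2 : x = 2 ∧ s = 2
      · obtain ⟨rfl, rfl⟩ := hx2
        norm_num
      · have ih' := ih h2 hx2
        have h4 : x ^ (s + 1) = x * x ^ s := by ring
        rw [h4]
        have h5 : x * (s * (1 + x)) ≤ x * (1 + x ^ s) := Nat.mul_le_mul_left _ ih'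
        have h6 : 2 * (s * (1 + x)) ≤ x * (s * (1 + x)) := Nat.mul_le_mul_right _ hx
        nlinarith

theorem gs_two (x : ℕ) : gs x 2 = 1 + x := by
  unfold gs
  rw [Finset.sum_range_succ, Finset.sum_range_one, pow_zero, pow_one]

theorem gs_three (x : ℕ) : gs x 3 = 1 + x + x ^ 2 := by
  unfold gs
  rw [Finset.sum_range_succ, Finset.sum_range_succ, Finset.sum_range_one, pow_zero, pow_one]

/-- `s (1 + x + ... + x^(d-1)) ≤ 1 + x^s + ... + x^(s(d-1))` -/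
theorem gsA {x s : ℕ} (hx : 2 ≤ x) (hs : 1 ≤ s) : ∀ d : ℕ, 2 ≤ d →
    ¬ (d = 2 ∧ x = 2 ∧ s = 2) → s * gs x d ≤ gs (x ^ s) d := by
  intro d
  induction d with
  | zero => intro h; omega
  | succ d ih =>
    intro hd hexc
    rcases Nat.lt_or_ge s 2 with h1 | h2
    · have : s = 1 := by omega
      subst this
      rw [pow_one, one_mul]
    · rcases Nat.lt_or_ge d 2 with hd2 | hd2
      · -- d + 1 = 2
        have : d = 1 := by omega
        subst this
        rw [show (1 + 1 : ℕ) = 2 by rfl, gs_two, gs_two]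
        apply base_two hx s h2
        intro h
        exact hexc ⟨rfl, h.1, h.2⟩
      · rw [gs_succ, gs_succ, mul_add]
        by_cases hexc2 : d = 2 ∧ x = 2 ∧ s = 2
        · obtain ⟨rfl, rfl, rfl⟩ := hexc2
          rw [gs_two, gs_two]
          norm_num
        · exact Nat.add_le_add (ih hd2 hexc2) (mul_pow_le hx hs (by omega))

theorem four_mul_le {x s : ℕ} (hx : 2 ≤ x) (hs : 2 ≤ s) (hor : 3 ≤ s ∨ 4 ≤ x) :
    4 * s ≤ x ^ (2 * s - 2) := by
  rcases Nat.lt_or_ge s 3 with h | h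
  · have hs2 : s = 2 := by omega
    subst hs2
    have hx4 : 4 ≤ x := by omega
    show 8 ≤ x ^ 2
    calc 8 ≤ 4 ^ 2 := by norm_num
      _ ≤ x ^ 2 := Nat.pow_le_pow_left hx4 _
  · obtain ⟨t, rfl⟩ : ∃ t, s = t + 3 := ⟨s - 3, by omega⟩
    have h1 : 2 * (t + 3) - 2 = 2 * t + 4 := by omega
    rw [h1]
    have h2 : t < 2 ^ t := Nat.lt_two_pow_self
    calc 4 * (t + 3) ≤ 16 * 2 ^ t := by omega
      _ ≤ 16 * 4 ^ t := Nat.mul_le_mul_left _ (Nat.pow_le_pow_left (by norm_num) _)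
      _ = 2 ^ (2 * t + 4) := by
        rw [pow_add, pow_mul]
        norm_num
        ring
      _ ≤ x ^ (2 * t + 4) := Nat.pow_le_pow_left hx _

theorem base_three {x s : ℕ} (hx : 2 ≤ x) (hs : 2 ≤ s) (hor : 3 ≤ s ∨ 4 ≤ x) :
    2 * s * (1 + x + x ^ 2) ≤ 1 + x ^ s + (x ^ s) ^ 2 := by
  have h1 := four_mul_le hx hs hor
  have h2 : (x ^ s) ^ 2 = x ^ (2 * s - 2) * x ^ 2 := by
    rw [← pow_mul, ← pow_add]
    congr 1
    omega
  have h3 : 1 + x ≤ x ^ 2 := by nlinarith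
  have h4 : 4 * s * x ^ 2 ≤ x ^ (2 * s - 2) * x ^ 2 := Nat.mul_le_mul_right _ h1
  have h5 : 2 * s * (1 + x + x ^ 2) ≤ 2 * s * (2 * x ^ 2) := Nat.mul_le_mul_left _ (by omega)
  have h6 : 2 * s * (2 * x ^ 2) = 4 * s * x ^ 2 := by ring
  rw [h2]
  omega

/-- `2 s (1 + x + ... + x^(d-1)) ≤ 1 + x^s + ... + x^(s(d-1))` -/
theorem gsB {x s : ℕ} (hx : 2 ≤ x) (hs : 2 ≤ s) (hor : 3 ≤ s ∨ 4 ≤ x) : ∀ d : ℕ, 3 ≤ d →
    2 * s * gs x d ≤ gs (x ^ s) d := by
  intro d
  induction d with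
  | zero => intro h; omega
  | succ d ih =>
    intro hd
    rcases Nat.lt_or_ge d 3 with hd2 | hd2
    · have : d = 2 := by omega
      subst this
      rw [show (2 + 1 : ℕ) = 3 by rfl, gs_three, gs_three]
      exact base_three hx hs hor
    · rw [gs_succ, gs_succ, mul_add]
      exact Nat.add_le_add (ih hd2) (two_mul_pow_le hx hs (by omega))

/-- the numerical inequality for semilinear automorphisms -/
theorem numA {x s d m : ℕ} (hx : 2 ≤ x) (hs : 1 ≤ s) (hd : 2 ≤ d)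
    (hexc : ¬ (d = 2 ∧ x = 2 ∧ s = 2)) (hm : (x - 1) * m + 1 ≤ x ^ d) :
    (x ^ s - 1) * (s * m) ≤ (x ^ s) ^ d - 1 := by
  have h1 : m ≤ gs x d := le_gs hx hm
  have h2 : s * m ≤ gs (x ^ s) d :=
    (Nat.mul_le_mul_left _ h1).trans (gsA hx hs d hd hexc)
  have h3 : 1 ≤ x ^ s := Nat.one_le_pow _ _ (by omega)
  have h4 := gs_spec h3 d
  have h5 : (x ^ s - 1) * (s * m) ≤ (x ^ s - 1) * gs (x ^ s) d := Nat.mul_le_mul_left _ h2
  omega

/-- the numerical inequality for graph automorphisms with a field part of order at least three -/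
theorem numB {x s d m : ℕ} (hx : 2 ≤ x) (hs : 2 ≤ s) (hd : 3 ≤ d) (hor : 3 ≤ s ∨ 4 ≤ x)
    (hm : (x - 1) * m + 1 ≤ x ^ d) :
    (x ^ s - 1) * (2 * s * m) ≤ (x ^ s) ^ d - 1 := by
  have h1 : m ≤ gs x d := le_gs hx hm
  have h2 : 2 * s * m ≤ gs (x ^ s) d :=
    (Nat.mul_le_mul_left _ h1).trans (gsB hx hs hor d hd)
  have h3 : 1 ≤ x ^ s := Nat.one_le_pow _ _ (by omega)
  have h4 := gs_spec h3 d
  have h5 : (x ^ s - 1) * (2 * s * m) ≤ (x ^ s - 1) * gs (x ^ s) d := Nat.mul_le_mul_left _ h2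
  omega

/-- `2 m^m + 1 ≤ (m+1)^m` for `m ≥ 2` -/
theorem two_pow_self_le {m : ℕ} (hm : 2 ≤ m) : 2 * m ^ m + 1 ≤ (m + 1) ^ m := by
  have key : ∀ j : ℕ, 2 ≤ j → m ^ j + j * m ^ (j - 1) + 1 ≤ (m + 1) ^ j := by
    intro j
    induction j with
    | zero => intro h; omega
    | succ j ih =>
      intro hj
      rcases Nat.lt_or_ge j 2 with h | h
      · have : j = 1 := by omega
        subst this
        show m ^ 2 + 2 * m ^ 1 + 1 ≤ (m + 1) ^ 2
        ring_nf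
        omega
      · have ih' := ih h
        have h1 : (m + 1) ^ (j + 1) = (m + 1) * (m + 1) ^ j := by ring
        have h2 : m ^ (j + 1) = m * m ^ j := by ring
        have h3 : m ^ j = m * m ^ (j - 1) := by
          have : j = (j - 1) + 1 := by omega
          conv_lhs => rw [this, pow_succ]
          ring
        rw [h1, h2]
        show m * m ^ j + (j + 1) * m ^ j + 1 ≤ (m + 1) * (m + 1) ^ j
        have h4 : (m + 1) * (m ^ j + j * m ^ (j - 1) + 1) ≤ (m + 1) * (m + 1) ^ j :=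
          Nat.mul_le_mul_left _ ih'
        have h5 : 0 < m ^ (j - 1) := Nat.pos_of_ne_zero (pow_ne_zero _ (by omega))
        nlinarith
  have h := key m hm
  have h1 : m * m ^ (m - 1) = m ^ m := mul_pow_sub_one (by omega) m
  rw [h1] at h
  omega

theorem two_mul_pred_pow_le {q d : ℕ} (hq : 2 ≤ q) (hd : 1 ≤ d) :
    2 * (q ^ (d - 1) - 1) ≤ q ^ d - 1 := by
  have h1 : q ^ d = q * q ^ (d - 1) := by
    have : d = (d - 1) + 1 := by omega
    conv_lhs => rw [this, pow_succ]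
    ring
  have h2 : 2 * q ^ (d - 1) ≤ q * q ^ (d - 1) := Nat.mul_le_mul_right _ hq
  have h3 : 0 < q ^ (d - 1) := Nat.pos_of_ne_zero (pow_ne_zero _ (by omega))
  omega

theorem two_mul_sq_le {q d : ℕ} (hq : 2 ≤ q) (hd : 3 ≤ d) :
    2 * (q ^ 2 - 1) ≤ q ^ d - 1 := by
  have h1 : q ^ 3 ≤ q ^ d := Nat.pow_le_pow_right (by omega) hd
  have h2 : q ^ 3 = q * q ^ 2 := by ring
  have h3 : 2 * q ^ 2 ≤ q * q ^ 2 := Nat.mul_le_mul_right _ hq
  have h4 : 0 < q ^ 2 := Nat.pos_of_ne_zero (pow_ne_zero _ (by omega))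
  omega

end Cfsg.Agent.Lib.H7MaxOrd
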