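import Cfsg.Agent.Lib.Helper7.MaxOrd.TypeI
import Cfsg.Agent.Lib.Helper7.MaxOrd.Num
import Mathlib

/-!
# Real elements of `PGL_n(F)`, part A (helper7)

Let `h` be an invertible matrix with `h⁻¹ = g σ(h)ᵀ g⁻¹` for a field automorphism `σ` (this is what
the square of an element of a graph coset of `Aut(PSL_n(F))` looks like).  The set
`T = {c • h^i}` is a group; if `h` satisfies no quadratic relation then `h - c ∉ T` for `c ≠ 0`.
-/

set_option autoImplicit false

namespace Cfsg.Agent.Lib.H7MaxOrd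

open Matrix Cfsg Cfsg.Agent.AutPSLCount Cfsg.Agent.Lib.H7AutPSL Polynomial

variable {n : ℕ} {F : Type*} [Field F]

/-- the twisted anti-automorphism `X ↦ g σ(X)ᵀ g⁻¹` -/
def tw (σ : RingAut F) (g : GL (Fin n) F) (X : Matrix (Fin n) (Fin n) F) :
    Matrix (Fin n) (Fin n) F :=
  g.val * (X.map σ)ᵀ * g⁻¹.val

theorem tw_sub (σ : RingAut F) (g : GL (Fin n) F) (X Y : Matrix (Fin n) (Fin n) F) :
    tw σ g (X - Y) = tw σ g X - tw σ g Y := by
  unfold tw
  have h1 : (X - Y).map σ = X.map σ - Y.map σ := by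
    ext i j
    simp [Matrix.map_apply]
  rw [h1, Matrix.transpose_sub, Matrix.mul_sub, Matrix.sub_mul]

theorem tw_smul (σ : RingAut F) (g : GL (Fin n) F) (c : F) (X : Matrix (Fin n) (Fin n) F) :
    tw σ g (c • X) = σ c • tw σ g X := by
  unfold tw
  have h1 : (c • X).map σ = σ c • X.map σ := by
    ext i j
    simp [Matrix.map_apply]
  rw [h1, Matrix.transpose_smul, Matrix.mul_smul, Matrix.smul_mul]

theorem tw_one (σ : RingAut F) (g : GL (Fin n) F) : tw σ g 1 = 1 := by
  unfold tw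
  have h1 : (1 : Matrix (Fin n) (Fin n) F).map σ = 1 := by
    ext i j
    by_cases hij : i = j
    · subst hij
      simp [Matrix.map_apply]
    · simp [Matrix.map_apply, Matrix.one_apply_ne hij]
  rw [h1, Matrix.transpose_one, Matrix.mul_one, ← Units.val_mul, mul_inv_cancel, Units.val_one]

theorem tw_mul (σ : RingAut F) (g : GL (Fin n) F) (X Y : Matrix (Fin n) (Fin n) F) :
    tw σ g (X * Y) = tw σ g Y * tw σ g X := by
  unfold tw
  have h1 : (X * Y).map σ = X.map σ * Y.map σ := Matrix.map_mul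
  have h2 : g⁻¹.val * g.val = 1 := by rw [← Units.val_mul, inv_mul_cancel, Units.val_one]
  rw [h1, Matrix.transpose_mul]
  calc g.val * ((Y.map σ)ᵀ * (X.map σ)ᵀ) * g⁻¹.val
      = g.val * (Y.map σ)ᵀ * 1 * ((X.map σ)ᵀ * g⁻¹.val) := by
        rw [Matrix.mul_one]
        simp only [Matrix.mul_assoc]
    _ = g.val * (Y.map σ)ᵀ * g⁻¹.val * (g.val * (X.map σ)ᵀ * g⁻¹.val) := by
        rw [← h2]
        simp only [Matrix.mul_assoc]

theorem tw_pow (σ : RingAut F) (g : GL (Fin n) F) (X : Matrix (Fin n) (Fin n) F) (i : ℕ) :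
    tw σ g (X ^ i) = tw σ g X ^ i := by
  induction i with
  | zero => rw [pow_zero, pow_zero, tw_one]
  | succ i ih => rw [pow_succ, tw_mul, ih, pow_succ']

/-- **no quadratic relation ⇒ `h - c` is not of the form `c' h^i`** -/
theorem sub_smul_ne (σ : RingAut F) (g h : GL (Fin n) F)
    (hrel : h⁻¹.val = tw σ g h.val)
    (hQ : ∀ a b : F, h.val * h.val ≠ a • h.val + b • (1 : Matrix (Fin n) (Fin n) F))
    {c : F} (hc : c ≠ 0) (c' : F) (i : ℕ) :
    h.val - c • (1 : Matrix (Fin n) (Fin n) F) ≠ c' • h.val ^ i := by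
  intro hE
  have hσc : σ c ≠ 0 := by
    intro h0
    exact hc ((map_eq_zero σ).1 h0)
  have hE2 := congrArg (tw σ g) hE
  rw [tw_sub, tw_smul, tw_smul, tw_one, tw_pow, ← hrel] at hE2
  have h1 : h.val * h⁻¹.val = 1 := by rw [← Units.val_mul, mul_inv_cancel, Units.val_one]
  have h2 : h⁻¹.val * h.val = 1 := by rw [← Units.val_mul, inv_mul_cancel, Units.val_one]
  have h3 : h.val ^ i * h⁻¹.val ^ i = 1 := by
    rw [← Units.val_pow_eq_pow_val, ← Units.val_pow_eq_pow_val, ← Units.val_mul, inv_pow,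
      mul_inv_cancel, Units.val_one]
  have hP : (h.val - c • (1 : Matrix (Fin n) (Fin n) F)) * (h⁻¹.val - σ c • 1) * h.val
      = (c' * σ c') • h.val := by
    rw [hE, hE2, Matrix.smul_mul, Matrix.mul_smul, h3, smul_smul, Matrix.smul_mul,
      Matrix.one_mul, mul_comm]
  have hP2 : (h.val - c • (1 : Matrix (Fin n) (Fin n) F)) * (h⁻¹.val - σ c • 1) * h.val
      = h.val - σ c • (h.val * h.val) - c • 1 + (c * σ c) • h.val := by
    simp only [Matrix.sub_mul, Matrix.mul_sub, Matrix.smul_mul, Matrix.mul_smul, Matrix.one_mul,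
      Matrix.mul_one, h1, h2]
    module
  rw [hP2] at hP
  apply hQ ((σ c)⁻¹ * (1 + c * σ c - c' * σ c')) (-((σ c)⁻¹ * c))
  have h4 : σ c • (h.val * h.val) = (1 + c * σ c - c' * σ c') • h.val - c • 1 := by
    rw [sub_smul, add_smul, one_smul, ← hP]
    abel
  calc h.val * h.val = (σ c)⁻¹ • (σ c • (h.val * h.val)) := by
        rw [smul_smul, inv_mul_cancel₀ hσc, one_smul]
    _ = _ := by
        rw [h4, smul_sub, smul_smul, smul_smul, neg_smul, sub_eq_add_neg]

end Cfsg.Agent.Lib.H7MaxOrd
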