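import Cfsg.Agent.Lib.Helper7.MaxOrd.RealA
import Mathlib

/-!
# Real elements of `PGL_n(F)`, part B (helper7)

The group `T = {c • h^i}`, its cardinality, the span `W` of the powers of `h`, and the first two
cases of the bound `2 |T| ≤ q^n - 1`: `h` satisfies a quadratic relation, or some `h - c` with
`c ≠ 0` is invertible.
-/

set_option autoImplicit false

namespace Cfsg.Agent.Lib.H7MaxOrd

open Matrix Cfsg Cfsg.Agent.AutPSLCount Cfsg.Agent.Lib.H7AutPSL Polynomial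

variable {n : ℕ} {F : Type*} [Field F]

/-- the set of nonzero scalar multiples of powers of `h` -/
def Tset (h : GL (Fin n) F) : Set (Matrix (Fin n) (Fin n) F) :=
  {X | ∃ c : F, c ≠ 0 ∧ ∃ i : ℕ, X = c • h.val ^ i}

theorem one_mem_Tset (h : GL (Fin n) F) : (1 : Matrix (Fin n) (Fin n) F) ∈ Tset h :=
  ⟨1, one_ne_zero, 0, by rw [pow_zero, one_smul]⟩

theorem val_mem_Tset (h : GL (Fin n) F) : h.val ∈ Tset h :=
  ⟨1, one_ne_zero, 1, by rw [pow_one, one_smul]⟩

theorem Tset_mul (h : GL (Fin n) F) {X Y : Matrix (Fin n) (Fin n) F} (hX : X ∈ Tset h)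
    (hY : Y ∈ Tset h) : X * Y ∈ Tset h := by
  obtain ⟨c, hc, i, rfl⟩ := hX
  obtain ⟨c', hc', j, rfl⟩ := hY
  refine ⟨c * c', mul_ne_zero hc hc', i + j, ?_⟩
  rw [Matrix.smul_mul, Matrix.mul_smul, smul_smul, pow_add]

theorem Tset_smul (h : GL (Fin n) F) {X : Matrix (Fin n) (Fin n) F} (hX : X ∈ Tset h)
    {a : F} (ha : a ≠ 0) : a • X ∈ Tset h := by
  obtain ⟨c, hc, i, rfl⟩ := hX
  exact ⟨a * c, mul_ne_zero ha hc, i, by rw [smul_smul]⟩

theorem Tset_pow (h : GL (Fin n) F) {X : Matrix (Fin n) (Fin n) F} (hX : X ∈ Tset h) (i : ℕ) :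
    X ^ i ∈ Tset h := by
  induction i with
  | zero => rw [pow_zero]; exact one_mem_Tset h
  | succ i ih => rw [pow_succ]; exact Tset_mul h ih hX

theorem Tset_ne_zero [Nonempty (Fin n)] (h : GL (Fin n) F) {X : Matrix (Fin n) (Fin n) F}
    (hX : X ∈ Tset h) : X ≠ 0 := by
  obtain ⟨c, hc, i, rfl⟩ := hX
  exact smul_pow_ne_zero h hc i

theorem inv_mem_Tset [Finite F] (hn : 2 ≤ n) (h : GL (Fin n) F) : h⁻¹.val ∈ Tset h := by
  have : Nonempty (Fin n) := ⟨⟨0, by omega⟩⟩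
  have hm := orderOf_Dh_pos (n := n) h
  obtain ⟨c₀, hc₀⟩ := (Dh_pow_eq_one_iff hn h _).1 (pow_orderOf_eq_one (Dh h : MulAut (PSLn n F)))
  set m := orderOf (Dh h : MulAut (PSLn n F)) with hmdef
  have hc₀0 : c₀ ≠ 0 := by
    rintro rfl
    rw [zero_smul] at hc₀
    exact (isUnit_val_pow h m).ne_zero hc₀
  refine ⟨c₀⁻¹, inv_ne_zero hc₀0, m - 1, ?_⟩
  have h2 : h⁻¹.val * h.val = 1 := by rw [← Units.val_mul, inv_mul_cancel, Units.val_one]
  have h3 : h.val ^ m = h.val * h.val ^ (m - 1) := by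
    rw [← pow_succ']
    congr 1
    omega
  calc h⁻¹.val = c₀⁻¹ • (h⁻¹.val * (c₀ • (1 : Matrix (Fin n) (Fin n) F))) := by
        rw [Matrix.mul_smul, Matrix.mul_one, smul_smul, inv_mul_cancel₀ hc₀0, one_smul]
    _ = c₀⁻¹ • h.val ^ (m - 1) := by
        rw [← hc₀, h3, ← Matrix.mul_assoc, h2, Matrix.one_mul]

theorem exists_left_inv [Finite F] (hn : 2 ≤ n) (h : GL (Fin n) F)
    {X : Matrix (Fin n) (Fin n) F} (hX : X ∈ Tset h) : ∃ Y ∈ Tset h, Y * X = 1 := by
  obtain ⟨c, hc, i, rfl⟩ := hX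
  refine ⟨c⁻¹ • h⁻¹.val ^ i, Tset_smul h (Tset_pow h (inv_mem_Tset hn h) i) (inv_ne_zero hc), ?_⟩
  rw [Matrix.smul_mul, Matrix.mul_smul, smul_smul, inv_mul_cancel₀ hc, one_smul,
    ← Units.val_pow_eq_pow_val, ← Units.val_pow_eq_pow_val, ← Units.val_mul, inv_pow,
    inv_mul_cancel, Units.val_one]

/-- `|T| ≥ (q - 1) ord(Dh h)` -/
theorem Tset_card_ge [Fintype F] (hn : 2 ≤ n) (h : GL (Fin n) F) :
    (Fintype.card F - 1) * orderOf (Dh h : MulAut (PSLn n F)) ≤ (Tset h).ncard := by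
  classical
  set m := orderOf (Dh h : MulAut (PSLn n F)) with hm
  let φ : Fˣ × Fin m → Matrix (Fin n) (Fin n) F := fun p => (p.1 : F) • h.val ^ (p.2 : ℕ)
  have hφ : Function.Injective φ := by
    rintro ⟨c, i⟩ ⟨c', j⟩ hE
    obtain ⟨h1, h2⟩ := smul_pow_inj hn h c.ne_zero c'.ne_zero i.2 j.2 hE
    rw [Prod.mk.injEq]
    exact ⟨Units.ext h2, Fin.ext h1⟩
  have h1 : Set.range φ ⊆ Tset h := by
    rintro _ ⟨⟨c, i⟩, rfl⟩
    exact ⟨c, c.ne_zero, i, rfl⟩
  have h2 : (Set.range φ).ncard = (Fintype.card F - 1) * m := by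
    rw [← Set.image_univ, Set.ncard_image_of_injective _ hφ, Set.ncard_univ,
      Nat.card_eq_fintype_card, Fintype.card_prod, Fintype.card_units, Fintype.card_fin]
  rw [← h2]
  exact Set.ncard_le_ncard h1 (Set.toFinite _)

/-- the span of the powers of `h` -/
def Wsp (h : GL (Fin n) F) : Submodule F (Matrix (Fin n) (Fin n) F) :=
  Submodule.span F (Set.range (fun i : Fin n => h.val ^ (i : ℕ)))

theorem pow_mem_Wsp (h : GL (Fin n) F) (j : ℕ) : h.val ^ j ∈ Wsp h :=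
  pow_mem_span F h.val (fun _ => ⟨_, rfl⟩) j

theorem card_Wsp_le [Fintype F] (h : GL (Fin n) F) : Nat.card (Wsp h) ≤ Fintype.card F ^ n := by
  have h1 := card_span_le F (fun i : Fin n => h.val ^ (i : ℕ))
  rw [Nat.card_eq_fintype_card (α := F)] at h1
  exact h1

theorem Tset_sub_Wsp (h : GL (Fin n) F) : Tset h ⊆ (Wsp h : Set (Matrix (Fin n) (Fin n) F)) := by
  rintro _ ⟨c, -, i, rfl⟩
  exact (Wsp h).smul_mem c (pow_mem_Wsp h i)

/-- **case Q**: a quadratic relation -/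
theorem caseQ [Fintype F] (hn : 2 ≤ n) (h : GL (Fin n) F)
    (hQ : ∃ a b : F, h.val * h.val = a • h.val + b • (1 : Matrix (Fin n) (Fin n) F)) :
    (Tset h).ncard ≤ Fintype.card F ^ 2 - 1 := by
  classical
  have : Nonempty (Fin n) := ⟨⟨0, by omega⟩⟩
  obtain ⟨a, b, hab⟩ := hQ
  have hpow : ∀ i : ℕ, ∃ x y : F, h.val ^ i = x • h.val + y • (1 : Matrix (Fin n) (Fin n) F) := by
    intro i
    induction i with
    | zero => exact ⟨0, 1, by rw [pow_zero, zero_smul, zero_add, one_smul]⟩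
    | succ i ih =>
      obtain ⟨x, y, hxy⟩ := ih
      refine ⟨x * a + y, x * b, ?_⟩
      rw [pow_succ, hxy, Matrix.add_mul, Matrix.smul_mul, Matrix.smul_mul, Matrix.one_mul, hab]
      module
  let f : F × F → Matrix (Fin n) (Fin n) F := fun p => p.1 • h.val + p.2 • 1
  have hsub : Tset h ⊆ f '' (↑(Finset.univ.erase (0 : F × F)) : Set (F × F)) := by
    intro X hX
    have hX0 := Tset_ne_zero h hX
    obtain ⟨c, hc, i, rfl⟩ := hX
    obtain ⟨x, y, hxy⟩ := hpow i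
    refine ⟨(c * x, c * y), ?_, ?_⟩
    · rw [Finset.coe_erase, Set.mem_sdiff, Set.mem_singleton_iff]
      refine ⟨Finset.mem_coe.2 (Finset.mem_univ _), ?_⟩
      intro h0
      rw [Prod.mk_eq_zero] at h0
      apply hX0
      rw [hxy, smul_add, smul_smul, smul_smul, h0.1, h0.2, zero_smul, zero_smul, add_zero]
    · show (c * x) • h.val + (c * y) • (1 : Matrix (Fin n) (Fin n) F) = c • h.val ^ i
      rw [hxy, smul_add, smul_smul, smul_smul]
  calc (Tset h).ncard ≤ (f '' (↑(Finset.univ.erase (0 : F × F)) : Set (F × F))).ncard :=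
        Set.ncard_le_ncard hsub (Set.toFinite _)
    _ ≤ (↑(Finset.univ.erase (0 : F × F)) : Set (F × F)).ncard := Set.ncard_image_le (Set.toFinite _)
    _ = Fintype.card F ^ 2 - 1 := by
        rw [Set.ncard_coe_finset, Finset.card_erase_of_mem (Finset.mem_univ _), Finset.card_univ,
          Fintype.card_prod, sq]

/-- **case U**: some `h - c₀` with `c₀ ≠ 0` is invertible and `h - c₀ ∉ T` -/
theorem caseU [Fintype F] (hn : 2 ≤ n) (h : GL (Fin n) F) {c₀ : F}
    (hnot : ∀ (c' : F) (i : ℕ),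
      h.val - c₀ • (1 : Matrix (Fin n) (Fin n) F) ≠ c' • h.val ^ i)
    (hdet : (h.val - c₀ • (1 : Matrix (Fin n) (Fin n) F)).det ≠ 0) :
    2 * (Tset h).ncard + 1 ≤ Fintype.card F ^ n := by
  classical
  have : Nonempty (Fin n) := ⟨⟨0, by omega⟩⟩
  set u := h.val - c₀ • (1 : Matrix (Fin n) (Fin n) F) with hu
  have hudet : IsUnit u.det := isUnit_iff_ne_zero.2 hdet
  have huu : u * u⁻¹ = 1 := Matrix.mul_nonsing_inv u hudet
  have hinj : Function.Injective (fun X : Matrix (Fin n) (Fin n) F => X * u) := by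
    intro X Y hXY
    have h1 : X * u * u⁻¹ = Y * u * u⁻¹ := by
      have : X * u = Y * u := hXY
      rw [this]
    rwa [Matrix.mul_assoc, Matrix.mul_assoc, huu, Matrix.mul_one, Matrix.mul_one] at h1
  set T' := (fun X : Matrix (Fin n) (Fin n) F => X * u) '' Tset h with hT'
  have hcard' : T'.ncard = (Tset h).ncard := Set.ncard_image_of_injective _ hinj
  have hdisj : Disjoint (Tset h) T' := by
    rw [Set.disjoint_left]
    rintro X hX ⟨Y, hY, hYX⟩
    obtain ⟨Y', hY', hYY⟩ := exists_left_inv hn h hY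
    have h1 : u = Y' * X := by
      rw [← hYX]
      show u = Y' * (Y * u)
      rw [← Matrix.mul_assoc, hYY, Matrix.one_mul]
    obtain ⟨c', -, i, hc'⟩ := Tset_mul h hY' hX
    exact hnot c' i (h1.trans hc')
  have h0T : (0 : Matrix (Fin n) (Fin n) F) ∉ Tset h ∪ T' := by
    rintro (h0 | ⟨Y, hY, hY0⟩)
    · exact Tset_ne_zero h h0 rfl
    · have hY0' : Y * u = 0 := hY0
      have h1 : Y * u * u⁻¹ = 0 := by rw [hY0', Matrix.zero_mul]
      rw [Matrix.mul_assoc, huu, Matrix.mul_one] at h1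
      exact Tset_ne_zero h hY h1
  have hsub : insert (0 : Matrix (Fin n) (Fin n) F) (Tset h ∪ T') ⊆
      (Wsp h : Set (Matrix (Fin n) (Fin n) F)) := by
    intro X hX
    rcases hX with rfl | hX | ⟨Y, hY, rfl⟩
    · exact (Wsp h).zero_mem
    · exact Tset_sub_Wsp h hX
    · obtain ⟨c, -, i, rfl⟩ := hY
      show c • h.val ^ i * u ∈ Wsp h
      have h1 : c • h.val ^ i * u = c • h.val ^ (i + 1) - (c * c₀) • h.val ^ i := by
        rw [hu, Matrix.mul_sub, Matrix.smul_mul, Matrix.mul_smul, Matrix.mul_one, ← pow_succ,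
          smul_smul, mul_comm c₀ c]
      rw [h1]
      exact (Wsp h).sub_mem ((Wsp h).smul_mem _ (pow_mem_Wsp h _))
        ((Wsp h).smul_mem _ (pow_mem_Wsp h _))
  have h1 : (insert (0 : Matrix (Fin n) (Fin n) F) (Tset h ∪ T')).ncard
      = 2 * (Tset h).ncard + 1 := by
    rw [Set.ncard_insert_of_notMem h0T (Set.toFinite _),
      Set.ncard_union_eq hdisj (Set.toFinite _) (Set.toFinite _), hcard']
    ring
  rw [← h1]
  calc (insert (0 : Matrix (Fin n) (Fin n) F) (Tset h ∪ T')).ncard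
      ≤ (Wsp h : Set (Matrix (Fin n) (Fin n) F)).ncard := Set.ncard_le_ncard hsub (Set.toFinite _)
    _ = Nat.card (Wsp h) := (Nat.card_coe_set_eq _).symm
    _ ≤ Fintype.card F ^ n := card_Wsp_le h

end Cfsg.Agent.Lib.H7MaxOrd
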