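import Cfsg.Agent.Lib.Helper7.MaxOrd.RealB
import Mathlib

/-!
# Real elements of `PGL_n(F)`, part C (helper7)

The case where every nonzero scalar is an eigenvalue of `h`, for `|F| ≥ 3`: evaluation at the
eigenvectors is a surjective linear map from the span `W` of the powers of `h` onto `F^(F^×)`
(Lagrange interpolation), and elements of `T` have nowhere vanishing image.
-/

set_option autoImplicit false

namespace Cfsg.Agent.Lib.H7MaxOrd

open Matrix Cfsg Cfsg.Agent.AutPSLCount Cfsg.Agent.Lib.H7AutPSL Polynomial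

/-- counting preimages under a surjective homomorphism of finite additive groups -/
theorem card_preimage_mul {A B : Type*} [AddCommGroup A] [AddCommGroup B] [Fintype A]
    [Fintype B] [DecidableEq B] (f : A →+ B) (hf : Function.Surjective f) (S : Finset B) :
    (Finset.univ.filter (fun a => f a ∈ S)).card * Fintype.card B
      = S.card * Fintype.card A := by
  classical
  set κ := (Finset.univ.filter (fun a => f a = 0)).card with hκ
  have hfib : ∀ b : B, (Finset.univ.filter (fun a => f a = b)).card = κ := fun b =>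
    AddMonoidHom.card_fiber_eq_of_mem_range f (hf b) (hf 0)
  have h1 : Fintype.card A = Fintype.card B * κ := by
    rw [← Finset.card_univ, Finset.card_eq_sum_card_fiberwise (f := f) (s := Finset.univ)
      (t := Finset.univ) (fun _ _ => Finset.mem_univ _)]
    rw [Finset.sum_congr rfl (fun b _ => hfib b), Finset.sum_const, smul_eq_mul, Finset.card_univ]
  have h2 : (Finset.univ.filter (fun a => f a ∈ S)).card = S.card * κ := by
    rw [Finset.card_eq_sum_card_fiberwise (f := f) (s := Finset.univ.filter (fun a => f a ∈ S))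
      (t := S) (fun a ha => (Finset.mem_filter.1 ha).2)]
    have h3 : ∀ b ∈ S, ((Finset.univ.filter (fun a => f a ∈ S)).filter (fun a => f a = b)).card
        = κ := by
      intro b hb
      rw [← hfib b]
      congr 1
      ext a
      simp only [Finset.mem_filter, Finset.mem_univ, true_and]
      constructor
      · exact fun h => h.2
      · exact fun h => ⟨h ▸ hb, h⟩
    rw [Finset.sum_congr rfl h3, Finset.sum_const, smul_eq_mul]
  rw [h1, h2]
  ring

variable {n : ℕ} {F : Type*} [Field F]

/-- **case ¬U, `|F| ≥ 3`**: every nonzero scalar is an eigenvalue -/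
theorem caseNU [Fintype F] (hn : 2 ≤ n) (h : GL (Fin n) F) (hq : 3 ≤ Fintype.card F)
    (hall : ∀ c : F, c ≠ 0 → (h.val - c • (1 : Matrix (Fin n) (Fin n) F)).det = 0) :
    2 * (Tset h).ncard + 1 ≤ Fintype.card F ^ n := by
  classical
  have : Nonempty (Fin n) := ⟨⟨0, by omega⟩⟩
  -- eigenvectors
  have hv : ∀ c : Fˣ, ∃ v : Fin n → F, v ≠ 0 ∧ h.val *ᵥ v = (c : F) • v := by
    intro c
    obtain ⟨v, hv0, hv⟩ := (Matrix.exists_mulVec_eq_zero_iff).2 (hall c c.ne_zero)
    refine ⟨v, hv0, ?_⟩
    rw [Matrix.sub_mulVec, Matrix.smul_mulVec, Matrix.one_mulVec, sub_eq_zero] at hv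
    exact hv
  choose v hv0 hv using hv
  have hi : ∀ c : Fˣ, ∃ i, v c i ≠ 0 := fun c => Function.ne_iff.1 (hv0 c)
  choose i₀ hi₀ using hi
  -- the evaluation map
  let E : Matrix (Fin n) (Fin n) F →ₗ[F] (Fˣ → F) :=
    { toFun := fun X c => (X *ᵥ v c) (i₀ c) / v c (i₀ c)
      map_add' := by
        intro X Y
        ext c
        simp only [Matrix.add_mulVec, Pi.add_apply, add_div]
      map_smul' := by
        intro a X
        ext c
        simp only [Matrix.smul_mulVec, Pi.smul_apply, smul_eq_mul, RingHom.id_apply, mul_div_assoc] }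
  have hE : ∀ (X : Matrix (Fin n) (Fin n) F) (c : Fˣ) (a : F), X *ᵥ v c = a • v c → E X c = a := by
    intro X c a hX
    show (X *ᵥ v c) (i₀ c) / v c (i₀ c) = a
    rw [hX, Pi.smul_apply, smul_eq_mul, mul_div_assoc, div_self (hi₀ c), mul_one]
  have hpow : ∀ (c : Fˣ) (j : ℕ), h.val ^ j *ᵥ v c = (c : F) ^ j • v c := by
    intro c j
    induction j with
    | zero => rw [pow_zero, pow_zero, Matrix.one_mulVec, one_smul]
    | succ j ih =>
      rw [pow_succ, ← Matrix.mulVec_mulVec, hv, Matrix.mulVec_smul, ih, smul_smul, pow_succ,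
        mul_comm]
  -- the restriction to `W`
  have : Fintype (Wsp h) := Fintype.ofFinite _
  let EW : Wsp h →+ (Fˣ → F) := (E.domRestrict (Wsp h)).toAddMonoidHom
  have hEW : ∀ w : Wsp h, EW w = E w.val := fun w => rfl
  have hsurj : Function.Surjective EW := by
    intro f
    set p := Lagrange.interpolate Finset.univ (fun c : Fˣ => (c : F)) f with hp
    have hX : (∑ j ∈ Finset.range (p.natDegree + 1), p.coeff j • h.val ^ j) ∈ Wsp h :=
      Submodule.sum_mem _ (fun j _ => (Wsp h).smul_mem _ (pow_mem_Wsp h j))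
    refine ⟨⟨_, hX⟩, ?_⟩
    ext c
    rw [hEW]
    apply (hE _ c (p.eval (c : F)) ?_).trans
    · exact Lagrange.eval_interpolate_at_node f
        (fun a _ b _ hab => Units.ext hab) (Finset.mem_univ c)
    · rw [Matrix.sum_mulVec, Polynomial.eval_eq_sum_range, Finset.sum_smul]
      apply Finset.sum_congr rfl
      intro j _
      rw [Matrix.smul_mulVec, hpow, smul_smul]
  -- nowhere vanishing functions
  set NZ : Finset (Fˣ → F) := Fintype.piFinset (fun _ : Fˣ => Finset.univ.erase (0 : F)) with hNZ
  have hNZcard : NZ.card = (Fintype.card F - 1) ^ (Fintype.card F - 1) := by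
    rw [hNZ, Fintype.card_piFinset, Finset.prod_const, Finset.card_erase_of_mem (Finset.mem_univ _),
      Finset.card_univ, Finset.card_univ, Fintype.card_units]
  have hcount := card_preimage_mul EW hsurj NZ
  have hBcard : Fintype.card (Fˣ → F) = Fintype.card F ^ (Fintype.card F - 1) := by
    rw [Fintype.card_fun, Fintype.card_units]
  -- `T` lies in the preimage
  have hT : Tset h ⊆ Subtype.val '' (↑(Finset.univ.filter (fun w : Wsp h => EW w ∈ NZ)) :
      Set (Wsp h)) := by
    intro X hX
    have hXW := Tset_sub_Wsp h hX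
    refine ⟨⟨X, hXW⟩, ?_, rfl⟩
    rw [Finset.mem_coe, Finset.mem_filter]
    refine ⟨Finset.mem_univ _, ?_⟩
    rw [hNZ, Fintype.mem_piFinset]
    intro c
    rw [Finset.mem_erase]
    refine ⟨?_, Finset.mem_univ _⟩
    obtain ⟨c', hc', j, rfl⟩ := hX
    rw [hEW]
    have h1 : E (c' • h.val ^ j) c = c' * (c : F) ^ j := by
      apply hE
      rw [Matrix.smul_mulVec, hpow, smul_smul]
    rw [h1]
    exact mul_ne_zero hc' (pow_ne_zero _ c.ne_zero)
  have hTle : (Tset h).ncard ≤ (Finset.univ.filter (fun w : Wsp h => EW w ∈ NZ)).card := by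
    calc (Tset h).ncard ≤ (Subtype.val '' (↑(Finset.univ.filter (fun w : Wsp h => EW w ∈ NZ)) :
          Set (Wsp h))).ncard := Set.ncard_le_ncard hT (Set.toFinite _)
      _ ≤ (↑(Finset.univ.filter (fun w : Wsp h => EW w ∈ NZ)) : Set (Wsp h)).ncard :=
          Set.ncard_image_le (Set.toFinite _)
      _ = _ := Set.ncard_coe_finset _
  -- arithmetic
  set a := (Finset.univ.filter (fun w : Wsp h => EW w ∈ NZ)).card with ha
  set w := Fintype.card (Wsp h) with hw
  set B := Fintype.card F ^ (Fintype.card F - 1) with hB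
  set s := (Fintype.card F - 1) ^ (Fintype.card F - 1) with hs
  rw [hBcard, hNZcard] at hcount
  have h2s : 2 * s + 1 ≤ B := by
    have := two_pow_self_le (m := Fintype.card F - 1) (by omega)
    rwa [Nat.sub_add_cancel (by omega : 1 ≤ Fintype.card F)] at this
  have hBw : B ≤ w := by
    have := Fintype.card_le_of_surjective EW hsurj
    rwa [hBcard] at this
  have hwle : w ≤ Fintype.card F ^ n := by
    have := card_Wsp_le h
    rwa [Nat.card_eq_fintype_card] at this
  have hBpos : 0 < B := Nat.pos_of_ne_zero (pow_ne_zero _ (by omega))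
  have hfin : 2 * a + 1 ≤ w := by
    apply Nat.le_of_mul_le_mul_right _ hBpos
    have h3 : (2 * a + 1) * B = 2 * (s * w) + B := by rw [← hcount]; ring
    rw [h3]
    nlinarith
  omega

end Cfsg.Agent.Lib.H7MaxOrd
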