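import Cfsg.Agent.Lib.Helper7.MaxOrd.RealC
import Mathlib

/-!
# Real elements of `PGL_n(F)`, part D (helper7)

The case `|F| = 2` with eigenvalue `1`, and the final bound `2 (q - 1) ord(Dh h) ≤ q^n - 1` for an
element `h` with `h⁻¹ = g σ(h)ᵀ g⁻¹`, `n ≥ 3`, `(n, q) ≠ (3, 2)`.
-/

set_option autoImplicit false

namespace Cfsg.Agent.Lib.H7MaxOrd

open Matrix Cfsg Cfsg.Agent.AutPSLCount Cfsg.Agent.Lib.H7AutPSL Polynomial

variable {n : ℕ} {F : Type*} [Field F]

theorem eq_one_of_card_two [Fintype F] (hq : Fintype.card F = 2) {c : F} (hc : c ≠ 0) : c = 1 := by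
  classical
  have h1 : Fintype.card Fˣ = 1 := by rw [Fintype.card_units, hq]
  have h2 : Subsingleton Fˣ := Fintype.card_le_one_iff_subsingleton.1 h1.le
  have h3 : Units.mk0 c hc = 1 := Subsingleton.elim _ _
  have h4 := congrArg Units.val h3
  rwa [Units.val_mk0, Units.val_one] at h4

theorem two_eq_zero_of_card_two [Fintype F] (hq : Fintype.card F = 2) : (2 : F) = 0 := by
  have h1 := FiniteField.cast_card_eq_zero F
  rw [hq] at h1
  exact_mod_cast h1

theorem le_two_pow_sub_two {n : ℕ} (hn : 4 ≤ n) : n ≤ 2 ^ (n - 2) := by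
  obtain ⟨k, rfl⟩ : ∃ k, n = k + 4 := ⟨n - 4, by omega⟩
  have h1 : k + 4 - 2 = k + 2 := by omega
  rw [h1, pow_add]
  have h2 : k < 2 ^ k := Nat.lt_two_pow_self
  omega

/-- nilpotent matrices have `n`-th power zero -/
theorem pow_eq_zero_of_isNilpotent (N : Matrix (Fin n) (Fin n) F) (hN : IsNilpotent N) :
    N ^ n = 0 := by
  have h1 := Matrix.isNilpotent_charpoly_sub_pow_of_isNilpotent hN
  have h2 : N.charpoly - X ^ (Fintype.card (Fin n)) = 0 := h1.eq_zero
  rw [Fintype.card_fin, sub_eq_zero] at h2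
  have h3 := Matrix.aeval_self_charpoly N
  rw [h2, map_pow, Polynomial.aeval_X] at h3
  exact h3

/-- **case ¬U, `|F| = 2`** -/
theorem caseNU2 [Fintype F] (hn : 4 ≤ n) (h : GL (Fin n) F) (hq : Fintype.card F = 2)
    (hdet : (h.val - (1 : F) • (1 : Matrix (Fin n) (Fin n) F)).det = 0) :
    2 * orderOf (Dh h : MulAut (PSLn n F)) ≤ 2 ^ n - 1 := by
  classical
  have : Nonempty (Fin n) := ⟨⟨0, by omega⟩⟩
  have h20 : (2 : F) = 0 := two_eq_zero_of_card_two hq
  set m := orderOf (Dh h : MulAut (PSLn n F)) with hm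
  -- part 1
  have hpart1 : 2 * (Tset h).ncard ≤ 2 ^ n := by
    obtain ⟨v, hv0, hv⟩ := (Matrix.exists_mulVec_eq_zero_iff).2 hdet
    rw [Matrix.sub_mulVec, Matrix.smul_mulVec, Matrix.one_mulVec, sub_eq_zero, one_smul] at hv
    have hpow : ∀ j : ℕ, h.val ^ j *ᵥ v = v := by
      intro j
      induction j with
      | zero => rw [pow_zero, Matrix.one_mulVec]
      | succ j ih => rw [pow_succ, ← Matrix.mulVec_mulVec, hv, ih]
    have hTv : ∀ X ∈ Tset h, X *ᵥ v = v := by
      rintro _ ⟨c, hc, j, rfl⟩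
      rw [eq_one_of_card_two hq hc, one_smul, hpow]
    set T' := (fun X : Matrix (Fin n) (Fin n) F => X + 1) '' Tset h with hT'
    have hcard' : T'.ncard = (Tset h).ncard :=
      Set.ncard_image_of_injective _ (add_left_injective 1)
    have hT'v : ∀ Y ∈ T', Y *ᵥ v = 0 := by
      rintro _ ⟨X, hX, rfl⟩
      show (X + 1) *ᵥ v = 0
      rw [Matrix.add_mulVec, hTv X hX, Matrix.one_mulVec, ← two_smul F v, h20, zero_smul]
    have hdisj : Disjoint (Tset h) T' := by
      rw [Set.disjoint_left]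
      intro X hX hX'
      apply hv0
      rw [← hTv X hX, hT'v X hX']
    have hsub : Tset h ∪ T' ⊆ (Wsp h : Set (Matrix (Fin n) (Fin n) F)) := by
      rintro X (hX | ⟨Y, hY, rfl⟩)
      · exact Tset_sub_Wsp h hX
      · exact (Wsp h).add_mem (Tset_sub_Wsp h hY) (Tset_sub_Wsp h (one_mem_Tset h))
    calc 2 * (Tset h).ncard = (Tset h ∪ T').ncard := by
          rw [Set.ncard_union_eq hdisj (Set.toFinite _) (Set.toFinite _), hcard']
          ring
      _ ≤ (Wsp h : Set (Matrix (Fin n) (Fin n) F)).ncard :=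
          Set.ncard_le_ncard hsub (Set.toFinite _)
      _ = Nat.card (Wsp h) := (Nat.card_coe_set_eq _).symm
      _ ≤ Fintype.card F ^ n := card_Wsp_le h
      _ = 2 ^ n := by rw [hq]
  -- part 2
  have hpart2 : m ≠ 2 ^ (n - 1) := by
    intro hm2
    have : CharP F 2 := CharTwo.of_one_ne_zero_of_two_eq_zero one_ne_zero h20
    have : Fact (Nat.Prime 2) := ⟨Nat.prime_two⟩
    obtain ⟨c₀, hc₀⟩ := (Dh_pow_eq_one_iff (by omega) h _).1
      (pow_orderOf_eq_one (Dh h : MulAut (PSLn n F)))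
    rw [← hm, hm2] at hc₀
    have hc₀0 : c₀ ≠ 0 := by
      rintro rfl
      rw [zero_smul] at hc₀
      exact (isUnit_val_pow h _).ne_zero hc₀
    rw [eq_one_of_card_two hq hc₀0, one_smul] at hc₀
    set N₀ := h.val - 1 with hN₀
    have hN1 : N₀ ^ 2 ^ (n - 1) = 0 := by
      rw [hN₀, sub_pow_char_pow_of_commute 2 (n - 1) (Commute.one_right _), hc₀, one_pow, sub_self]
    have hNn : N₀ ^ n = 0 := pow_eq_zero_of_isNilpotent N₀ ⟨_, hN1⟩
    have hN2 : N₀ ^ 2 ^ (n - 2) = 0 := by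
      have h1 := le_two_pow_sub_two hn
      have h2 : 2 ^ (n - 2) = n + (2 ^ (n - 2) - n) := by omega
      rw [h2, pow_add, hNn, Matrix.zero_mul]
    have hH : h.val ^ 2 ^ (n - 2) = 1 := by
      have h1 : h.val = N₀ + 1 := by rw [hN₀, sub_add_cancel]
      rw [h1, add_pow_char_pow_of_commute 2 (n - 2) (Commute.one_right _), hN2, one_pow, zero_add]
    have h3 : (Dh h : MulAut (PSLn n F)) ^ 2 ^ (n - 2) = 1 :=
      (Dh_pow_eq_one_iff (by omega) h _).2 ⟨1, by rw [hH, one_smul]⟩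
    have h4 := Nat.le_of_dvd (by positivity) (orderOf_dvd_of_pow_eq_one h3)
    rw [← hm, hm2] at h4
    have h5 : 2 ^ (n - 1) = 2 * 2 ^ (n - 2) := by
      rw [← pow_succ']
      congr 1
      omega
    have h6 : 0 < 2 ^ (n - 2) := by positivity
    omega
  have h1 := Tset_card_ge (by omega : 2 ≤ n) h
  rw [hq, ← hm] at h1
  have h2 : 2 ^ n = 2 * 2 ^ (n - 1) := by
    rw [← pow_succ']
    congr 1
    omega
  omega

/-- **the bound for real elements**: if `h⁻¹ = g σ(h)ᵀ g⁻¹` then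
`2 (q - 1) ord(Dh h) ≤ q^n - 1`, for `n ≥ 3` and `(n, q) ≠ (3, 2)` -/
theorem real_bound [Fintype F] (hn : 3 ≤ n) (hexc : ¬ (n = 3 ∧ Fintype.card F = 2))
    (σ : RingAut F) (g h : GL (Fin n) F) (hrel : h⁻¹.val = tw σ g h.val) :
    2 * ((Fintype.card F - 1) * orderOf (Dh h : MulAut (PSLn n F))) ≤ Fintype.card F ^ n - 1 := by
  classical
  have hq : 2 ≤ Fintype.card F := Fintype.one_lt_card
  have hTge := Tset_card_ge (by omega : 2 ≤ n) h
  by_cases hQ : ∃ a b : F, h.val * h.val = a • h.val + b • (1 : Matrix (Fin n) (Fin n) F)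
  · have h1 := caseQ (by omega : 2 ≤ n) h hQ
    have h2 := two_mul_sq_le hq hn
    omega
  · push Not at hQ
    by_cases hU : ∃ c₀ : F, c₀ ≠ 0 ∧ (h.val - c₀ • (1 : Matrix (Fin n) (Fin n) F)).det ≠ 0
    · obtain ⟨c₀, hc₀, hdet⟩ := hU
      have h1 := caseU (by omega : 2 ≤ n) h (sub_smul_ne σ g h hrel hQ hc₀) hdet
      omega
    · push Not at hU
      rcases Nat.lt_or_ge (Fintype.card F) 3 with hq3 | hq3
      · have hq2 : Fintype.card F = 2 := by omega
        have hn4 : 4 ≤ n := by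
          by_contra hlt
          exact hexc ⟨by omega, hq2⟩
        have h1 := caseNU2 hn4 h hq2 (hU 1 one_ne_zero)
        rw [hq2]
        omega
      · have h1 := caseNU (by omega : 2 ≤ n) h hq3 hU
        omega

end Cfsg.Agent.Lib.H7MaxOrd
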