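import Cfsg.Agent.Lib.Helper7.MaxOrd.Basic
import Cfsg.Agent.Lib.Helper7.AutPSL.FixedField
import Mathlib

/-!
# The order of a semilinear automorphism `Dh g * Ph τ` of `PSL_n(F)` (helper7)

If `τ` has order `s` and fixed field `K` then `(Dh g * Ph τ) ^ s = Dh N` where the norm `N` is
conjugate to `τ(N)`, so its characteristic polynomial has coefficients in `K`; the `K`-span of
the powers of `N` has at most `|K|^n` elements, which bounds the order of `Dh N`.
-/

set_option autoImplicit false

namespace Cfsg.Agent.Lib.H7MaxOrd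

open Matrix Cfsg Cfsg.Agent.AutPSLCount Cfsg.Agent.Lib.H7AutPSL Polynomial

variable {n : ℕ} {F : Type*} [Field F]

/-- the fixed field of an automorphism -/
abbrev fixK (τ : RingAut F) : Subfield F := FixedPoints.subfield (Subgroup.zpowers τ) F

theorem mem_fixK (τ : RingAut F) (t : F) : t ∈ fixK τ ↔ τ t = t := mem_fixed_iff τ t

/-- `|F| = |K|^s` -/
theorem card_fixK_pow [Fintype F] (τ : RingAut F) :
    Fintype.card F = Nat.card (fixK τ) ^ orderOf τ := by
  classical
  have : Finite (RingAut F) := Finite.of_injective (fun σ : RingAut F => (σ : F → F))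
    (fun a b h => RingEquiv.ext (congrFun h))
  have hfo : IsOfFinOrder τ := isOfFinOrder_of_finite τ
  have hfin : Finite (Subgroup.zpowers τ) := Set.finite_coe_iff.2 hfo.finite_zpowers
  let _ : Fintype (Subgroup.zpowers τ) := Fintype.ofFinite _
  let _ : Fintype (FixedPoints.subfield (Subgroup.zpowers τ) F) := Fintype.ofFinite _
  have h1 : Module.finrank (FixedPoints.subfield (Subgroup.zpowers τ) F) F = orderOf τ := by
    rw [FixedPoints.finrank_eq_card, ← Nat.card_eq_fintype_card, Nat.card_zpowers]
  have h2 := Module.card_eq_pow_finrank (K := FixedPoints.subfield (Subgroup.zpowers τ) F) (V := F)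
  rw [h1] at h2
  rw [h2, Nat.card_eq_fintype_card]

/-- powers of a matrix lie in the span, over a subfield containing the coefficients of the
characteristic polynomial, of the first `n` powers -/
theorem pow_mem_span (K : Type*) [Field K] [Algebra K F] (A : Matrix (Fin n) (Fin n) F)
    (hA : ∀ i, ∃ k : K, algebraMap K F k = A.charpoly.coeff i) (j : ℕ) :
    A ^ j ∈ Submodule.span K (Set.range (fun i : Fin n => A ^ (i : ℕ))) := by
  induction j using Nat.strong_induction_on with
  | _ j ih =>
    rcases Nat.lt_or_ge j n with hj | hj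
    · exact Submodule.subset_span ⟨⟨j, hj⟩, rfl⟩
    · have hCH := Matrix.aeval_self_charpoly A
      rw [Polynomial.aeval_eq_sum_range, Matrix.charpoly_natDegree_eq_dim, Fintype.card_fin,
        Finset.sum_range_succ] at hCH
      have hlead : A.charpoly.coeff n = 1 := by
        have h1 := (Matrix.charpoly_monic A).coeff_natDegree
        rwa [Matrix.charpoly_natDegree_eq_dim, Fintype.card_fin] at h1
      rw [hlead, one_smul] at hCH
      have hAn : A ^ n = ∑ i ∈ Finset.range n, (-(A.charpoly.coeff i)) • A ^ i := by
        have h5 : A ^ n = - ∑ i ∈ Finset.range n, A.charpoly.coeff i • A ^ i := by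
          rw [eq_neg_iff_add_eq_zero, add_comm]
          exact hCH
        rw [h5, ← Finset.sum_neg_distrib]
        apply Finset.sum_congr rfl
        intro i _
        rw [neg_smul]
      have hAj : A ^ j = ∑ i ∈ Finset.range n, (-(A.charpoly.coeff i)) • A ^ (j - n + i) := by
        have h1 : A ^ j = A ^ (j - n) * A ^ n := by
          rw [← pow_add]
          congr 1
          omega
        rw [h1, hAn, Finset.mul_sum]
        apply Finset.sum_congr rfl
        intro i _
        rw [Matrix.mul_smul, pow_add]
      rw [hAj]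
      apply Submodule.sum_mem
      intro i hi
      have hi' : i < n := Finset.mem_range.1 hi
      have h2 : A ^ (j - n + i) ∈ Submodule.span K (Set.range (fun i : Fin n => A ^ (i : ℕ))) :=
        ih (j - n + i) (by omega)
      obtain ⟨k, hk⟩ := hA i
      have h3 := Submodule.smul_mem _ (-k) h2
      rw [← algebraMap_smul F (-k), map_neg, hk] at h3
      exact h3

/-- the span of `n` elements over a finite field `K` has at most `|K|^n` elements -/
theorem card_span_le (K : Type*) [Field K] [Finite K] {M : Type*} [AddCommGroup M] [Module K M]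
    (v : Fin n → M) : Nat.card (Submodule.span K (Set.range v)) ≤ Nat.card K ^ n := by
  have : Fintype K := Fintype.ofFinite K
  rw [← Fintype.range_linearCombination]
  have h1 : Nat.card (LinearMap.range (Fintype.linearCombination K v)) ≤ Nat.card (Fin n → K) :=
    Nat.card_le_card_of_surjective _ (LinearMap.surjective_rangeRestrict _)
  have h2 : Nat.card (Fin n → K) = Nat.card K ^ n := by
    rw [Nat.card_eq_fintype_card, Fintype.card_fun, Fintype.card_fin, Nat.card_eq_fintype_card]
  rwa [h2] at h1

/-- the counting bound: if all powers of `A` lie in a `K`-subspace `W` then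
`(|K| - 1) ord(Dh A) + 1 ≤ |W|` -/
theorem count_bound [Finite F] (hn : 2 ≤ n) (K : Type*) [Field K] [Algebra K F] (A : GL (Fin n) F)
    (W : Submodule K (Matrix (Fin n) (Fin n) F)) (hW : ∀ j : ℕ, A.val ^ j ∈ W) :
    (Nat.card K - 1) * orderOf (Dh A : MulAut (PSLn n F)) + 1 ≤ Nat.card W := by
  classical
  have : Nonempty (Fin n) := ⟨⟨0, by omega⟩⟩
  have : Fintype F := Fintype.ofFinite F
  have : Finite K := Finite.of_injective (algebraMap K F) (algebraMap K F).injective
  have : Fintype K := Fintype.ofFinite K
  set m := orderOf (Dh A : MulAut (PSLn n F)) with hm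
  let ψ : Option (Kˣ × Fin m) → W := fun o => match o with
    | none => 0
    | some (c, i) => ⟨(c : K) • A.val ^ (i : ℕ), W.smul_mem _ (hW _)⟩
  have hval : ∀ (c : Kˣ) (i : Fin m), ((c : K) • A.val ^ (i : ℕ) : Matrix (Fin n) (Fin n) F)
      = (algebraMap K F (c : K)) • A.val ^ (i : ℕ) := fun c i => (algebraMap_smul F _ _).symm
  have hcne : ∀ c : Kˣ, algebraMap K F (c : K) ≠ 0 := by
    intro c h
    apply c.ne_zero
    exact (map_eq_zero (algebraMap K F)).1 h
  have hψ : Function.Injective ψ := by
    intro o o' h
    match o, o' with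
    | none, none => rfl
    | none, some (c, i) =>
      exfalso
      have h1 := congrArg Subtype.val h
      exact smul_pow_ne_zero A (hcne c) i ((hval c i).symm.trans h1.symm)
    | some (c, i), none =>
      exfalso
      have h1 := congrArg Subtype.val h
      exact smul_pow_ne_zero A (hcne c) i ((hval c i).symm.trans h1)
    | some (c, i), some (c', j) =>
      have h1 : (algebraMap K F (c : K)) • A.val ^ (i : ℕ)
          = (algebraMap K F (c' : K)) • A.val ^ (j : ℕ) := by
        rw [← hval, ← hval]
        exact congrArg Subtype.val h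
      obtain ⟨h2, h3⟩ := smul_pow_inj hn A (hcne c) (hcne c') i.2 j.2 h1
      have h4 : i = j := Fin.ext h2
      have h5 : c = c' := Units.ext ((algebraMap K F).injective h3)
      rw [h4, h5]
  have h1 : Nat.card (Option (Kˣ × Fin m)) ≤ Nat.card W := Nat.card_le_card_of_injective ψ hψ
  have h3 : Nat.card (Option (Kˣ × Fin m)) = (Nat.card K - 1) * m + 1 := by
    rw [Nat.card_eq_fintype_card, Fintype.card_option, Fintype.card_prod, Fintype.card_units,
      Fintype.card_fin, Nat.card_eq_fintype_card]
  rwa [h3] at h1

/-- the norm is conjugate to its image under the field automorphism -/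
theorem gmap_gnorm (τ : RingAut F) (g : GL (Fin n) F) (s : ℕ) (hs : τ ^ s = 1) :
    gmap τ (gnorm τ g s) = g⁻¹ * gnorm τ g s * g := by
  have h1 : g * gmap τ (gnorm τ g s) = gnorm τ g s * gmap (τ ^ s) g := gnorm_succ' τ g s
  rw [hs, gmap_one_aut] at h1
  rw [mul_assoc, ← h1, inv_mul_cancel_left]

/-- the characteristic polynomial of the norm has fixed coefficients -/
theorem charpoly_gnorm_fixed (τ : RingAut F) (g : GL (Fin n) F) (s : ℕ) (hs : τ ^ s = 1) (i : ℕ) :
    (gnorm τ g s).val.charpoly.coeff i ∈ fixK τ := by
  rw [mem_fixK]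
  have h1 := congrArg Units.val (gmap_gnorm τ g s hs)
  rw [gmap_val, Units.val_mul, Units.val_mul] at h1
  have h2 : ((gnorm τ g s).val.map τ).charpoly = (gnorm τ g s).val.charpoly := by
    rw [h1, Matrix.charpoly_mul_comm, ← Matrix.mul_assoc, ← Units.val_mul, mul_inv_cancel,
      Units.val_one, Matrix.one_mul]
  have h3 : ((gnorm τ g s).val.map τ).charpoly
      = (gnorm τ g s).val.charpoly.map (τ : F →+* F) := by
    have := Matrix.charpoly_map (gnorm τ g s).val (τ : F →+* F)
    exact this
  rw [h3] at h2
  have h4 := congrArg (fun p : F[X] => p.coeff i) h2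
  simp only [Polynomial.coeff_map] at h4
  exact h4

/-- **the bound for semilinear automorphisms**: with `s` the order of `τ`, `K` its fixed field
and `N` the norm of `g`, the order of `Dh g * Ph τ` divides `s * ord(Dh N)` and
`(|K| - 1) ord(Dh N) + 1 ≤ |K|^n` -/
theorem typeI_bound [Finite F] (hn : 2 ≤ n) (τ : RingAut F) (g : GL (Fin n) F) :
    ∃ m : ℕ, 0 < m ∧ orderOf (Dh g * Ph τ : MulAut (PSLn n F)) ∣ orderOf τ * m ∧
      (Nat.card (fixK τ) - 1) * m + 1 ≤ Nat.card (fixK τ) ^ n := by
  have hs : τ ^ orderOf τ = 1 := pow_orderOf_eq_one τ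
  set N := gnorm τ g (orderOf τ) with hN
  refine ⟨orderOf (Dh N : MulAut (PSLn n F)), orderOf_Dh_pos N, ?_, ?_⟩
  · apply orderOf_dvd_of_pow_eq_one
    rw [pow_mul, coset_pow, hs, map_one, mul_one, ← hN, pow_orderOf_eq_one]
  · have h1 := count_bound hn (fixK τ) N
      (Submodule.span (fixK τ) (Set.range (fun i : Fin n => N.val ^ (i : ℕ))))
      (pow_mem_span (fixK τ) N.val
        (fun i => ⟨⟨_, charpoly_gnorm_fixed τ g _ hs i⟩, rfl⟩))
    exact h1.trans (card_span_le (fixK τ) _)

end Cfsg.Agent.Lib.H7MaxOrd
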